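import Cfsg.Agent.Characters.Core
import Cfsg.Agent.Characters.Central
import Cfsg.Agent.Characters.Values
import Cfsg.Agent.Characters.SchurBound
import Cfsg.Agent.CharactersDeep.CosetAverage
import Cfsg.Agent.FastGrp
import Cfsg.Agent.Prune
set_option linter.all false
prune_inst 0x7f00000000000000000000000000000000000000000000000000000000000000000000000000000000000000000000000000000000000000000000000000000000000000000000000000000000000000003fffffffffffffffffffffffffffbeffbdebfeffff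
open scoped Cfsg.Agent.FastGrp

/-!
# Character values on a group of Heisenberg type (helper97, for S2464)

`Q` a finite group, `Z ≠ 1` a central subgroup, `χ` a character of `Q` with `χ (z v) = χ v` for `v ∉ Z`, constant `c ≠ χ 1` on
`Z - {1}`: `χ 1 = a + m (|Z| - 1)`, `c = a - m`, `|Q : Z| ≤ m ^ 2` and `‖χ v‖ ≤ a` for all `v ∉ Z`.
-/

set_option autoImplicit false

open Cfsg Subgroup

namespace Cfsg.Agent.H97.TC

open Cfsg.Agent.Characters
open scoped ComplexConjugate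

universe u

variable {Q : Type u} [Group Q] [Fintype Q]

theorem irr_central_mul {θ : Q → ℂ} (hθ : IsIrrCharacter Q θ) {z : Q} (hz : z ∈ Subgroup.center Q) (y : Q) :
    θ (z * y) * θ 1 = θ z * θ y := by
  have h := Central.sum_char_conj_mul hθ z y
  have h1 : ∀ a : Q, θ (a * z * a⁻¹ * y) = θ (z * y) := by
    intro a
    rw [(Subgroup.mem_center_iff.1 hz) a]
    congr 1
    group
  rw [Finset.sum_congr rfl (fun a _ => h1 a), Finset.sum_const, Finset.card_univ, ← Nat.card_eq_fintype_card,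
    nsmul_eq_mul] at h
  have h0 : θ 1 ≠ 0 := Central.irr_one_ne_zero hθ
  have hc : (Nat.card Q : ℂ) ≠ 0 := Core.card_ne_zero_complex
  rw [eq_div_iff h0, mul_assoc, mul_assoc] at h
  exact mul_left_cancel₀ hc h


theorem norm_central {θ : Q → ℂ} (hθ : IsIrrCharacter Q θ) {z : Q} (hz : z ∈ Subgroup.center Q) {d : ℕ}
    (hd : θ 1 = d) : ‖θ z‖ = d := by
  have h1 := irr_central_mul hθ (Subgroup.inv_mem _ hz) z
  rw [inv_mul_cancel, Core.isCharacter_apply_inv (Core.isIrr_isCharacter hθ) z, hd] at h1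
  have h2 : (‖θ z‖ : ℂ) ^ 2 = (d : ℂ) ^ 2 := by
    rw [← Complex.conj_mul', ← h1]; ring
  have h3 : ‖θ z‖ ^ 2 = (d : ℝ) ^ 2 := by exact_mod_cast h2
  exact (pow_left_inj₀ (norm_nonneg _) (Nat.cast_nonneg d) two_ne_zero).1 h3

theorem deg_sq_le {θ : Q → ℂ} (hθ : IsIrrCharacter Q θ) {Z : Subgroup Q} (hZ : Z ≤ Subgroup.center Q) {d : ℕ}
    (hd : θ 1 = d) : d ^ 2 ≤ Z.index := by
  classical
  have h1 := Core.classInner_irr_self hθ
  rw [classInner] at h1
  have hc : (Nat.card Q : ℂ) ≠ 0 := Core.card_ne_zero_complex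
  have h2 : ∑ g : Q, θ g * conj (θ g) = Nat.card Q := by
    rw [inv_mul_eq_iff_eq_mul₀ hc, mul_one] at h1
    exact h1
  have h3 : ∑ g : Q, ‖θ g‖ ^ 2 = (Nat.card Q : ℝ) := by
    have : ((∑ g : Q, ‖θ g‖ ^ 2 : ℝ) : ℂ) = ((Nat.card Q : ℝ) : ℂ) := by
      push_cast
      rw [← h2]
      exact Finset.sum_congr rfl fun g _ => (Complex.mul_conj' _).symm
    exact_mod_cast this
  have h4 : ∑ g ∈ Finset.univ.filter (fun g : Q => g ∈ Z), ‖θ g‖ ^ 2 ≤ ∑ g : Q, ‖θ g‖ ^ 2 :=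
    Finset.sum_le_sum_of_subset_of_nonneg (Finset.filter_subset _ _) fun _ _ _ => by positivity
  rw [h3] at h4
  have h5 : ∑ g ∈ Finset.univ.filter (fun g : Q => g ∈ Z), ‖θ g‖ ^ 2 = (Nat.card Z : ℝ) * (d : ℝ) ^ 2 := by
    rw [Finset.sum_congr rfl (fun g hg => by rw [norm_central hθ (hZ (Finset.mem_filter.1 hg).2) hd]),
      Finset.sum_const, nsmul_eq_mul]
    congr 2
    rw [Nat.card_eq_fintype_card, Fintype.card_subtype]
  rw [h5, ← Z.card_mul_index] at h4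
  have h6 : Nat.card Z * d ^ 2 ≤ Nat.card Z * Z.index := by exact_mod_cast h4
  exact Nat.le_of_mul_le_mul_left h6 Nat.card_pos

theorem sum_irr_eq_zero {θ : Q → ℂ} (hθ : IsIrrCharacter Q θ) {Z : Subgroup Q} (hZ : Z ≤ Subgroup.center Q)
    {z₀ : Q} (hz₀ : z₀ ∈ Z) (hne : θ z₀ ≠ θ 1) (F : Q → ℂ) (hF : ∀ g, F (z₀ * g) = F g) :
    ∑ g : Q, F g * conj (θ g) = 0 := by
  have h0 : θ 1 ≠ 0 := Central.irr_one_ne_zero hθ
  have h1 : ∑ g : Q, F g * conj (θ g) = ∑ g : Q, F (z₀ * g) * conj (θ (z₀ * g)) :=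
    (Fintype.sum_equiv (Equiv.mulLeft z₀) _ _ fun g => rfl).symm
  have h2 : ∀ g : Q, F (z₀ * g) * conj (θ (z₀ * g)) = conj (θ z₀ / θ 1) * (F g * conj (θ g)) := by
    intro g
    have h3 : θ (z₀ * g) = θ z₀ / θ 1 * θ g := by
      rw [div_mul_eq_mul_div, eq_div_iff h0]
      exact irr_central_mul hθ (hZ hz₀) g
    rw [hF, h3, map_mul]
    ring
  rw [Finset.sum_congr rfl fun g _ => h2 g, ← Finset.mul_sum] at h1
  have h3 : (1 - conj (θ z₀ / θ 1)) * ∑ g : Q, F g * conj (θ g) = 0 := by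
    rw [sub_mul, one_mul, ← h1, sub_self]
  rcases mul_eq_zero.1 h3 with h4 | h4
  · exfalso
    apply hne
    have h5 : conj (θ z₀ / θ 1) = 1 := (sub_eq_zero.1 h4).symm
    have h6 : θ z₀ / θ 1 = 1 := by
      have := congrArg (starRingEnd ℂ) h5
      rwa [Complex.conj_conj, map_one] at this
    rwa [div_eq_one_iff_eq h0] at h6
  · exact h4

/-- **The Heisenberg bound.** -/
theorem heis {χ : Q → ℂ} (hχ : IsCharacter Q χ) {Z : Subgroup Q} (hZ : Z ≤ Subgroup.center Q)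
    (h1 : ∀ v ∉ Z, ∀ z ∈ Z, χ (z * v) = χ v) {c : ℂ} (h2 : ∀ z ∈ Z, z ≠ 1 → χ z = c) (h3 : χ 1 ≠ c)
    (hZ1 : Z ≠ ⊥) {s : ℕ} (hs : s ^ 2 ≤ Z.index) {D : ℕ} (hD : χ 1 = D) :
    ∃ a : ℕ, ∃ m : ℝ, (s : ℝ) ≤ m ∧ (D : ℝ) = a + m * (Nat.card Z - 1) ∧ c = ((a - m : ℝ) : ℂ) ∧
      ∀ v ∉ Z, ‖χ v‖ ≤ a := by
  classical
  have : Fintype Z := Fintype.ofFinite _
  have hnorm : Z.Normal := ⟨fun n hn g => by
    rw [(Subgroup.mem_center_iff.1 (hZ hn)) g, mul_assoc, mul_inv_cancel, mul_one]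
    exact hn⟩
  have hcZ : (Nat.card Z : ℂ) ≠ 0 := Core.card_ne_zero_complex
  have hcQ : (Nat.card Q : ℂ) ≠ 0 := Core.card_ne_zero_complex
  -- the average
  have hA := CharactersDeep.CosetAverage.isCharacter_cosetAverage Z hχ
  obtain ⟨a, ha⟩ := Core.isCharacter_apply_one hA
  have hsum : ∑ n : Z, χ n = χ 1 - c + Nat.card Z * c := by
    have h4 : ∑ n : Z, (χ n - c) = χ 1 - c := by
      rw [Finset.sum_eq_single (1 : Z)]
      · rfl
      · intro b _ hb
        rw [h2 b b.2 (fun h => hb (Subtype.ext h)), sub_self]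
      · intro h; exact absurd (Finset.mem_univ _) h
    rw [Finset.sum_sub_distrib, Finset.sum_const, Finset.card_univ, ← Nat.card_eq_fintype_card, nsmul_eq_mul] at h4
    rw [← h4]; ring
  have ha' : (Nat.card Z : ℂ) * a = χ 1 - c + Nat.card Z * c := by
    rw [← ha, ← hsum]
    simp only [mul_one]
    rw [← mul_assoc, mul_inv_cancel₀ hcZ, one_mul]
  -- a constituent not trivial on `Z`
  have : Finite (IrrCharacter Q) := Core.finite_irr
  have : Fintype (IrrCharacter Q) := Fintype.ofFinite _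
  obtain ⟨θ, hn0, z₀, hz₀, hne⟩ : ∃ θ : IrrCharacter Q, classInner χ (θ : Q → ℂ) ≠ 0 ∧
      ∃ z₀ ∈ Z, (θ : Q → ℂ) z₀ ≠ (θ : Q → ℂ) 1 := by
    by_contra hcon
    push Not at hcon
    obtain ⟨z, hz, hz1⟩ : ∃ z : Q, z ∈ Z ∧ z ≠ 1 := by
      obtain ⟨z, hz⟩ := (Subgroup.ne_bot_iff_exists_ne_one).1 hZ1
      exact ⟨z, z.2, fun h' => hz (Subtype.ext h')⟩
    apply h3
    rw [← h2 z hz hz1]
    obtain ⟨n, hn⟩ := Core.exists_nat_comb hχ
    rw [hn]
    simp only [Finset.sum_apply, Pi.smul_apply]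
    refine Finset.sum_congr rfl fun ψ _ => ?_
    by_cases hψ : n ψ = 0
    · rw [hψ, zero_smul, zero_smul]
    · rw [hcon ψ (by rw [hn, Core.classInner_sum_nsmul_irr]; exact_mod_cast hψ) z hz]
  obtain ⟨n, hn⟩ := Core.classInner_isNat hχ (Core.isIrr_isCharacter θ.2)
  obtain ⟨d, hd0, hd⟩ := Core.isIrr_apply_one θ.2
  have hn1 : 1 ≤ n := by
    rw [Nat.one_le_iff_ne_zero]
    rintro rfl
    exact hn0 (by rw [hn, Nat.cast_zero])
  have hdI : d ^ 2 ≤ Z.index := deg_sq_le θ.2 hZ hd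
  have hsd : ∑ g : Q, χ g * conj ((θ : Q → ℂ) g) = (Nat.card Q : ℂ) * n := by
    rw [← hn, classInner, ← mul_assoc, mul_inv_cancel₀ hcQ, one_mul]
  -- the sum outside `Z` vanishes
  have hS1 : ∑ g : Q, (if g ∈ Z then 0 else χ g) * conj ((θ : Q → ℂ) g) = 0 := by
    refine sum_irr_eq_zero θ.2 hZ hz₀ hne _ fun g => ?_
    by_cases hg : g ∈ Z
    · rw [if_pos hg, if_pos (Z.mul_mem hz₀ hg)]
    · rw [if_neg hg, if_neg (fun h => hg ((Z.mul_mem_cancel_left hz₀).1 h)), h1 g hg z₀ hz₀]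
  have hS2 : ∑ g : Q, (if g ∈ Z then c else 0) * conj ((θ : Q → ℂ) g) = 0 := by
    refine sum_irr_eq_zero θ.2 hZ hz₀ hne _ fun g => ?_
    by_cases hg : g ∈ Z
    · rw [if_pos hg, if_pos (Z.mul_mem hz₀ hg)]
    · rw [if_neg hg, if_neg (fun h => hg ((Z.mul_mem_cancel_left hz₀).1 h))]
  have hS3 : ∑ g : Q, (if g = 1 then χ 1 - c else 0) * conj ((θ : Q → ℂ) g) = (χ 1 - c) * d := by
    rw [Finset.sum_eq_single (1 : Q)]
    · rw [if_pos rfl, hd, map_natCast]
    · intro b _ hb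
      rw [if_neg hb, zero_mul]
    · intro h; exact absurd (Finset.mem_univ _) h
  have hS : (Nat.card Q : ℂ) * n = (χ 1 - c) * d := by
    have key : ∀ g : Q, χ g * conj ((θ : Q → ℂ) g) = (if g ∈ Z then 0 else χ g) * conj ((θ : Q → ℂ) g) +
        ((if g ∈ Z then c else 0) * conj ((θ : Q → ℂ) g) +
          (if g = 1 then χ 1 - c else 0) * conj ((θ : Q → ℂ) g)) := by
      intro g
      by_cases hg : g ∈ Z
      · by_cases hg1 : g = 1
        · subst hg1
          rw [if_pos hg, if_pos hg, if_pos rfl]; ring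
        · rw [if_pos hg, if_pos hg, if_neg hg1, h2 g hg hg1]; ring
      · have hg1 : g ≠ 1 := fun h => hg (h ▸ Z.one_mem)
        rw [if_neg hg, if_neg hg, if_neg hg1]; ring
    rw [← hsd, ← hS3, Finset.sum_congr rfl fun g _ => key g, Finset.sum_add_distrib, Finset.sum_add_distrib, hS1,
      hS2, zero_add, zero_add]
  have hd0' : (d : ℂ) ≠ 0 := by exact_mod_cast hd0.ne'
  have hcard : (Nat.card Q : ℂ) = Nat.card Z * Z.index := by
    rw [← Z.card_mul_index]; push_cast; ring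
  -- the number `m`
  set m : ℝ := n * Z.index / d with hm
  have hmc : (m : ℂ) = n * Z.index / d := by rw [hm]; push_cast; ring
  have hχc : χ 1 - c = Nat.card Z * (m : ℂ) := by
    rw [hmc]
    field_simp
    rw [← hS, hcard]; ring
  have hca : c = a - (m : ℂ) := by
    have h5 : (Nat.card Z : ℂ) * a = Nat.card Z * (m + c) := by rw [ha', hχc]; ring
    have h6 := mul_left_cancel₀ hcZ h5
    rw [h6]; ring
  refine ⟨a, m, ?_, ?_, ?_, ?_⟩
  · -- `s ≤ m`
    have h5 : (s : ℝ) ^ 2 ≤ Z.index := by exact_mod_cast hs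
    have h6 : (d : ℝ) ^ 2 ≤ Z.index := by exact_mod_cast hdI
    have h7 : (1 : ℝ) ≤ n := by exact_mod_cast hn1
    have h8 : (0 : ℝ) < d := by exact_mod_cast hd0
    have h9 : (0 : ℝ) ≤ s := Nat.cast_nonneg s
    rw [hm, le_div_iff₀ h8]
    have h10 : (s : ℝ) * d ≤ Z.index := by linarith only [h5, h6, sq_nonneg ((s : ℝ) - d)]
    nlinarith only [h7, h10]
  · have h5 : (D : ℂ) = ((a + m * (Nat.card Z - 1) : ℝ) : ℂ) := by
      rw [← hD]
      push_cast
      have : χ 1 = c + Nat.card Z * (m : ℂ) := by rw [← hχc]; ring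
      rw [this, hca]; ring
    exact_mod_cast h5
  · rw [hca]; push_cast; ring
  · intro v hv
    have h5 := SchurBound.norm_le hA (n := a) ?_ v
    · have h6 : (Nat.card Z : ℂ)⁻¹ * ∑ n : Z, χ ((n : Q) * v) = χ v := by
        rw [Finset.sum_congr rfl (fun (n : Z) _ => h1 v hv n n.2), Finset.sum_const, Finset.card_univ,
          ← Nat.card_eq_fintype_card, nsmul_eq_mul, ← mul_assoc, inv_mul_cancel₀ hcZ, one_mul]
      simpa only [h6] using h5
    · exact ha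

end Cfsg.Agent.H97.TC
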